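import Groth.Prelude.Def_FinCov
import Groth.Agent.TMul.Frame
import Mathlib.RingTheory.Localization.NormTrace
import Mathlib.RingTheory.Trace.Basic

/-!
The trace of a finite locally free algebra over the structure sheaf.
-/

set_option autoImplicit false
set_option backward.isDefEq.respectTransparency false
set_option backward.isDefEq.respectTransparency.types false
set_option linter.style.haveILetI false
set_option maxHeartbeats 1000000

universe u

open CategoryTheory CategoryTheory.Limits AlgebraicGeometry TopologicalSpace Opposite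
open Groth.Agent.QC (res resO res_res res_smul resO_resO app_res res_self resO_self section_eq_of_locally)
open TMul (IsFrame)

noncomputable section

namespace Groth.Agent.FinCovTr

variable {X : Scheme.{u}} (A : RelSpec.QCAlg X)

/-- Sections of the algebra as a ring. -/
abbrev Sec (V : X.Opens) : CommRingCat.{u} := A.presheaf.obj (op V)

/-- The algebra structure on sections. -/
@[implicit_reducible] def secAlg (V : X.Opens) : Algebra Γ(X, V) (Sec A V) := (A.str.app (op V)).hom.toAlgebra

attribute [local instance] secAlg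

/-- The restriction of sections of the algebra. -/
abbrev resA {V W : X.Opens} (h : W ≤ V) : Sec A V →+* Sec A W := (A.presheaf.map (homOfLE h).op).hom

/-- The trace on sections. -/
def tr (V : X.Opens) (a : Sec A V) : Γ(X, V) := Algebra.trace Γ(X, V) (Sec A V) a

/-- Module sections are ring sections. -/
def toRing (V : X.Opens) : Γ(A.toModule, V) ≃ₗ[Γ(X, V)] Sec A V where
  toFun s := s
  invFun s := s
  map_add' _ _ := rfl
  map_smul' _ _ := rfl
  left_inv _ := rfl
  right_inv _ := rfl

variable {A}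

theorem resA_smul {V W : X.Opens} (h : W ≤ V) (r : Γ(X, V)) (a : Sec A V) :
    resA A h (r • a) = resO X h r • resA A h a :=
  res_smul A.toModule h r a

theorem resA_resA {U V W : X.Opens} (h : W ≤ V) (h' : V ≤ U) (a : Sec A U) :
    resA A h (resA A h' a) = resA A (h.trans h') a :=
  res_res A.toModule h h' a

variable {n : ℕ} {U : X.Opens} {e : Fin n → Γ(A.toModule, U)}

/-- The basis of sections given by a frame. -/
def basisOf (he : IsFrame e) {V : X.Opens} (hV : V ≤ U) : Module.Basis (Fin n) Γ(X, V) (Sec A V) :=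
  Module.Basis.ofEquivFun ((toRing A V).symm.trans (he.equiv hV).symm)

theorem sum_repr (he : IsFrame e) {V : X.Opens} (hV : V ≤ U) (a : Sec A V) :
    ∑ i, (basisOf he hV).repr a i • resA A hV (toRing A U (e i)) = a :=
  (he.equiv hV).apply_symm_apply a

theorem repr_of_sum (he : IsFrame e) {V : X.Opens} (hV : V ≤ U) (a : Sec A V) (c : Fin n → Γ(X, V))
    (h : ∑ i, c i • resA A hV (toRing A U (e i)) = a) (i : Fin n) : (basisOf he hV).repr a i = c i :=
  congrFun (he.comb_injective hV ((sum_repr he hV a).trans h.symm)) i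

theorem basisOf_apply (he : IsFrame e) {V : X.Opens} (hV : V ≤ U) (j : Fin n) :
    basisOf he hV j = resA A hV (toRing A U (e j)) := by
  classical
  refine (sum_repr he hV (basisOf he hV j)).symm.trans ?_
  rw [Module.Basis.repr_self]
  simp [Finsupp.single_apply]

theorem finite_free (he : IsFrame e) {V : X.Opens} (hV : V ≤ U) :
    Module.Free Γ(X, V) (Sec A V) ∧ Module.Finite Γ(X, V) (Sec A V) :=
  ⟨Module.Free.of_basis (basisOf he hV), Module.Finite.of_basis (basisOf he hV)⟩

theorem repr_res (he : IsFrame e) {V W : X.Opens} (hV : V ≤ U) (hW : W ≤ V) (a : Sec A V) (i : Fin n) :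
    (basisOf he (hW.trans hV)).repr (resA A hW a) i = resO X hW ((basisOf he hV).repr a i) := by
  refine repr_of_sum he (hW.trans hV) _ (fun i => resO X hW ((basisOf he hV).repr a i)) ?_ i
  conv_rhs => rw [← sum_repr he hV a]
  rw [map_sum]
  exact Finset.sum_congr rfl fun j _ => by rw [resA_smul, resA_resA]

/-- The trace commutes with restriction over a frame. -/
theorem tr_res (he : IsFrame e) {V W : X.Opens} (hV : V ≤ U) (hW : W ≤ V) (a : Sec A V) :
    resO X hW (tr A V a) = tr A W (resA A hW a) := by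
  classical
  rw [tr, tr, Algebra.trace_eq_matrix_trace (basisOf he hV), Algebra.trace_eq_matrix_trace (basisOf he (hW.trans hV)),
    Matrix.trace, Matrix.trace, map_sum]
  refine Finset.sum_congr rfl fun j _ => ?_
  rw [Matrix.diag_apply, Matrix.diag_apply, Algebra.leftMulMatrix_eq_repr_mul, Algebra.leftMulMatrix_eq_repr_mul,
    ← repr_res he hV hW, map_mul, basisOf_apply, basisOf_apply, resA_resA]

theorem tr_add {V : X.Opens} (a b : Sec A V) : tr A V (a + b) = tr A V a + tr A V b := map_add _ a b

theorem tr_smul {V : X.Opens} (r : Γ(X, V)) (a : Sec A V) : tr A V (r • a) = r * tr A V a := map_smul _ r a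

/-- Functions agreeing locally agree. -/
theorem fn_eq {V : X.Opens} {t t' : Γ(X, V)}
    (h : ∀ x ∈ V, ∃ (W : X.Opens) (hW : W ≤ V), x ∈ W ∧ resO X hW t = resO X hW t') : t = t' :=
  section_eq_of_locally (M := Coh.structureModule X) h

variable (A)

/-- An open with a frame. -/
def HasFr (U : X.Opens) : Prop := ∃ (n : ℕ) (e : Fin n → Γ(A.toModule, U)), IsFrame e

variable {A}

theorem tr_res' {U V W : X.Opens} (h : HasFr A U) (hV : V ≤ U) (hW : W ≤ V) (a : Sec A V) :
    resO X hW (tr A V a) = tr A W (resA A hW a) := by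
  obtain ⟨n, e, he⟩ := h
  exact tr_res he hV hW a

theorem exists_hasFr (hA : FlatMod.IsFinLocFree A.toModule) (x : X) : ∃ U : X.Opens, x ∈ U ∧ HasFr A U := by
  obtain ⟨U, n, e, hx, he⟩ := TMul.exists_isFrame hA x
  exact ⟨U, hx, n, e, he⟩

/-- The value of the trace on a section. -/
def IsTr {V : X.Opens} (a : Sec A V) (t : Γ(X, V)) : Prop :=
  ∀ (U W : X.Opens) (_ : HasFr A U) (hW : W ≤ V) (_ : W ≤ U), resO X hW t = tr A W (resA A hW a)

theorem isTr_unique (hA : FlatMod.IsFinLocFree A.toModule) {V : X.Opens} {a : Sec A V} {t t' : Γ(X, V)}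
    (h : IsTr a t) (h' : IsTr a t') : t = t' :=
  fn_eq fun x hx => by
    obtain ⟨U, hxU, hU⟩ := exists_hasFr hA x
    exact ⟨V ⊓ U, inf_le_left, ⟨hx, hxU⟩,
      (h U (V ⊓ U) hU inf_le_left inf_le_right).trans (h' U (V ⊓ U) hU inf_le_left inf_le_right).symm⟩

theorem exists_isTr (hA : FlatMod.IsFinLocFree A.toModule) {V : X.Opens} (a : Sec A V) :
    ∃ t : Γ(X, V), IsTr a t := by
  choose U hxU hU using exists_hasFr hA
  obtain ⟨(t : Γ(X, V)), ht, -⟩ := TopCat.Sheaf.existsUnique_gluing' X.sheaf (fun x => V ⊓ U x) V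
    (fun _ => homOfLE inf_le_left) (fun z hz => Opens.mem_iSup.2 ⟨z, hz, hxU z⟩)
    (fun x => tr A (V ⊓ U x) (resA A inf_le_left a)) (fun x y => by
      let W := (V ⊓ U x) ⊓ (V ⊓ U y)
      change resO X (inf_le_left : W ≤ _) _ = resO X (inf_le_right : W ≤ _) _
      rw [tr_res' (hU x) inf_le_right, tr_res' (hU y) inf_le_right, resA_resA, resA_resA])
  refine ⟨t, fun U' W hU' hW hWU => fn_eq fun x hx => ⟨W ⊓ U x, inf_le_left, ⟨hx, hxU x⟩, ?_⟩⟩
  have hW' : W ⊓ U x ≤ V ⊓ U x := inf_le_inf hW le_rfl
  have e : resO X (inf_le_left : W ⊓ U x ≤ W) (resO X hW t) =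
      resO X (inf_le_left : W ⊓ U x ≤ W) (tr A W (resA A hW a)) := by
    rw [tr_res' hU' hWU, resA_resA, resO_resO, ← resO_resO hW' inf_le_left,
      show resO X (inf_le_left : V ⊓ U x ≤ V) t = _ from ht x, tr_res' (hU x) inf_le_right, resA_resA]
  exact e

/-- **The trace map of a finite locally free algebra.** -/
theorem exists_trace (hA : FlatMod.IsFinLocFree A.toModule) :
    ∃ τ : A.toModule ⟶ Coh.structureModule X, ∀ (U W : X.Opens), HasFr A U → W ≤ U →
      ∀ a : Sec A W, τ.app W a = tr A W a := by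
  choose im him using fun (V : X.Opens) (a : Sec A V) => exists_isTr hA a
  have hadd : ∀ (V : X.Opens) (s s' : Sec A V), im V (s + s') = im V s + im V s' := fun V s s' =>
    isTr_unique hA (him V _) fun U W hU hW hi => by
      rw [map_add, map_add, tr_add, him V s U W hU hW hi, him V s' U W hU hW hi]
  have hsmul : ∀ (V : X.Opens) (r : Γ(X, V)) (s : Sec A V), im V (r • s) = r * im V s := fun V r s =>
    isTr_unique hA (him V _) fun U W hU hW hi => by
      rw [map_mul, resA_smul, tr_smul, him V s U W hU hW hi]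
  refine ⟨⟨PresheafOfModules.homMk
    { app := fun V => AddCommGrpCat.ofHom (AddMonoidHom.mk' (fun s => (im V.unop s : Γ(X, V.unop))) (hadd V.unop))
      naturality := fun V W h => by
        ext s
        exact isTr_unique hA (him W.unop _) fun U W' hU hW hi => by
          change resO X hW (resO X (leOfHom h.unop) (im V.unop s)) = tr A W' (resA A hW (resA A (leOfHom h.unop) s))
          rw [resO_resO, resA_resA]
          exact him V.unop s U W' hU _ hi }
    fun V r s => hsmul V.unop r s⟩, fun U W hU hWU a => ?_⟩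
  have := him W a U W hU le_rfl hWU
  rw [resO_self] at this
  change im W a = _
  rw [this]
  exact congrArg (tr A W) (res_self A.toModule le_rfl a)

theorem eq_of_isTrace (hA : FlatMod.IsFinLocFree A.toModule) {τ τ' : A.toModule ⟶ Coh.structureModule X}
    (h : FinCov.IsTrace A τ) (h' : FinCov.IsTrace A τ') : τ = τ' := by
  ext V s
  refine fn_eq fun x hx => ?_
  obtain ⟨U, hxU, hU⟩ := exists_hasFr hA x
  obtain ⟨D, hD, hxD, hDV⟩ := exists_isAffineOpen_mem_and_subset (show x ∈ V ⊓ U from ⟨hx, hxU⟩)
  obtain ⟨n, e, he⟩ := hU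
  obtain ⟨hf, hfi⟩ := finite_free he (show D ≤ U from fun z hz => (hDV hz).2)
  have e1 : τ.app D (res A.toModule (fun z hz => (hDV hz).1) s) = τ'.app D (res A.toModule (fun z hz => (hDV hz).1) s) :=
    (h D hD hf hfi _).trans (h' D hD hf hfi _).symm
  rw [← app_res, ← app_res] at e1
  exact ⟨D, fun z hz => (hDV hz).1, hxD, e1⟩

theorem isTrace_of (hA : FlatMod.IsFinLocFree A.toModule) (τ : A.toModule ⟶ Coh.structureModule X)
    (hτ : ∀ (U W : X.Opens), HasFr A U → W ≤ U → ∀ a : Sec A W, τ.app W a = tr A W a) :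
    FinCov.IsTrace A τ := by
  intro D hD hf hfi a
  refine fn_eq fun x hx => ?_
  obtain ⟨U, hxU, hU⟩ := exists_hasFr hA x
  obtain ⟨r, hr, hxr⟩ := hD.exists_basicOpen_le ⟨x, hxU⟩ hx
  have hrD : X.basicOpen r ≤ D := X.basicOpen_le r
  letI : Algebra Γ(X, D) Γ(X, X.basicOpen r) := (resO X hrD).toAlgebra
  letI : Algebra (Sec A D) (Sec A (X.basicOpen r)) := (resA A hrD).toAlgebra
  letI : Algebra Γ(X, D) (Sec A (X.basicOpen r)) :=
    ((A.str.app (op (X.basicOpen r))).hom.comp (resO X hrD)).toAlgebra
  haveI : IsScalarTower Γ(X, D) Γ(X, X.basicOpen r) (Sec A (X.basicOpen r)) := IsScalarTower.of_algebraMap_eq' rfl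
  haveI : IsScalarTower Γ(X, D) (Sec A D) (Sec A (X.basicOpen r)) := IsScalarTower.of_algebraMap_eq' (by
    exact congrArg CommRingCat.Hom.hom (A.str.naturality (homOfLE hrD).op))
  haveI : IsLocalization (Submonoid.powers r) Γ(X, X.basicOpen r) := hD.isLocalization_basicOpen r
  haveI : IsLocalization (Algebra.algebraMapSubmonoid (Sec A D) (Submonoid.powers r)) (Sec A (X.basicOpen r)) := by
    rw [Algebra.algebraMapSubmonoid, Submonoid.map_powers]
    exact A.isQC D hD r
  haveI : Module.Free Γ(X, D) (Sec A D) := hf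
  haveI : Module.Finite Γ(X, D) (Sec A D) := hfi
  have e1 : resO X hrD (tr A D a) = tr A (X.basicOpen r) (resA A hrD a) :=
    (Algebra.trace_localization Γ(X, D) (Submonoid.powers r) (Rₘ := Γ(X, X.basicOpen r))
      (Sₘ := Sec A (X.basicOpen r)) a).symm
  have e2 : resO X hrD (τ.app D a) = resO X hrD (tr A D a) := by
    rw [e1]
    exact (app_res τ hrD a).trans (hτ U _ hU hr _)
  exact ⟨X.basicOpen r, hrD, hxr, e2⟩

end Groth.Agent.FinCovTr
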