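import Groth.Agent.FinCovTr.Trace
import Groth.Agent.W7Hull.HomAdj
import Groth.Agent.ResDesc.Main
import Groth.Agent.GoingDown.Dedekind
import Groth.Agent.RelSpecFT.Basic
import Groth.Agent.GrT.GammaIso
import Groth.Agent.W7Slope.Basic
import Groth.Agent.InfLift.SchemeSmallExt
import Mathlib.RingTheory.Trace.Basic
import Mathlib.AlgebraicGeometry.FunctionField

/-!
The trace form of a finite, generically separable morphism onto a regular curve.
-/

set_option autoImplicit false
set_option backward.isDefEq.respectTransparency false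
set_option backward.isDefEq.respectTransparency.types false
set_option linter.style.haveILetI false
set_option linter.unusedSectionVars false

universe u

open CategoryTheory CategoryTheory.Limits AlgebraicGeometry TopologicalSpace Opposite
open Groth.Agent.QC (res resO res_res res_self app_res)
open Groth.Agent.WeakAssLib (mgerm)

noncomputable section

namespace Groth.Agent.FinCovTr

open scoped nonZeroDivisors in
/-- The trace pairing of a finite free extension of domains is nondegenerate when the fraction fields are separable. -/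
theorem eq_zero_of_trace_mul {R S K L : Type*} [CommRing R] [IsDomain R] [CommRing S] [IsDomain S] [Field K] [Field L]
    [Algebra R S] [Algebra R K] [Algebra S L] [Algebra K L] [Algebra R L] [IsScalarTower R S L] [IsScalarTower R K L]
    [IsFractionRing R K] [IsFractionRing S L] [Module.Free R S] [Module.Finite R S] [Algebra.IsSeparable K L]
    {m : S} (hm : ∀ a : S, Algebra.trace R S (a * m) = 0) : m = 0 := by
  have hinj : Function.Injective (algebraMap R S) := by
    refine Function.Injective.of_comp (f := algebraMap S L) ?_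
    rw [← RingHom.coe_comp, ← IsScalarTower.algebraMap_eq R S L, IsScalarTower.algebraMap_eq R K L, RingHom.coe_comp]
    exact (algebraMap K L).injective.comp (IsFractionRing.injective R K)
  haveI : Algebra.IsAlgebraic R S := Algebra.IsIntegral.isAlgebraic
  haveI : IsLocalization (Algebra.algebraMapSubmonoid S R⁰) L := by
    refine (isLocalization_iff _ _).2 ⟨?_, fun z => ?_, fun {a b} h => ⟨1, ?_⟩⟩
    · rintro ⟨_, r, hr, rfl⟩
      refine IsUnit.mk0 _ fun h => nonZeroDivisors.ne_zero hr (hinj ?_)
      rw [map_zero]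
      exact IsFractionRing.injective S L (h.trans (map_zero _).symm)
    · obtain ⟨⟨a, s⟩, h⟩ := IsLocalization.surj S⁰ z
      obtain ⟨r, hr, t, ht⟩ := (Algebra.IsAlgebraic.isAlgebraic (R := R) (s : S)).exists_nonzero_dvd s.2
      refine ⟨⟨a * t, algebraMap R S r, r, mem_nonZeroDivisors_of_ne_zero hr, rfl⟩, ?_⟩
      simp only at h ⊢
      rw [ht, map_mul, map_mul, ← mul_assoc, h]
    · rw [Submonoid.coe_one, one_mul, one_mul]
      exact IsFractionRing.injective S L h
  haveI : FiniteDimensional K L := Module.Finite.of_isLocalization R S R⁰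
  refine IsFractionRing.injective S L ((map_zero (algebraMap S L)).symm ▸ ?_)
  refine (traceForm_nondegenerate K L).2 (algebraMap S L m) fun y => ?_
  obtain ⟨⟨a, _, r, hr, rfl⟩, h⟩ := IsLocalization.surj (Algebra.algebraMapSubmonoid S R⁰) y
  simp only at h
  have hr0 : algebraMap R K r ≠ 0 := by
    rw [Ne, map_eq_zero_iff _ (IsFractionRing.injective R K)]
    exact nonZeroDivisors.ne_zero hr
  have h0 : Algebra.trace K L (algebraMap K L (algebraMap R K r) * (y * algebraMap S L m)) = 0 := by
    rw [← mul_assoc, mul_comm (algebraMap K L _) y, ← IsScalarTower.algebraMap_apply, IsScalarTower.algebraMap_apply R S L,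
      h, ← map_mul, Algebra.trace_localization R R⁰ (a * m), hm, map_zero]
  rw [← Algebra.smul_def, map_smul, smul_eq_mul] at h0
  exact (mul_eq_zero.1 h0).resolve_left hr0

variable {X : Scheme.{u}} (A : RelSpec.QCAlg X)

attribute [local instance] secAlg

/-- The product of sections of an algebra, bilinearly. -/
def mulBil (V : X.Opens) : Γ(A.toModule, V) →ₗ[Γ(X, V)] Γ(A.toModule, V) →ₗ[Γ(X, V)] Γ(A.toModule, V) :=
  LinearMap.mk₂ _ (fun a b => (toRing A V).symm (toRing A V a * toRing A V b))
    (fun a a' b => by rw [map_add, add_mul, map_add])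
    (fun r a b => by rw [map_smul, smul_mul_assoc, map_smul])
    (fun a b b' => by rw [map_add, mul_add, map_add])
    (fun r a b => by rw [map_smul, mul_smul_comm, map_smul])

/-- Multiplication. -/
def mulMap : CohB1.tensorMod A.toModule A.toModule ⟶ A.toModule :=
  TMul.lift (mulBil A) fun {V U} h a b => map_mul (resA A h) (toRing A U a) (toRing A U b)

theorem mulMap_tm {V : X.Opens} (a b : Γ(A.toModule, V)) :
    (mulMap A).app V (TMul.tm a b) = (toRing A V).symm (toRing A V a * toRing A V b) :=
  TMul.lift_tm (mulBil A) (fun {V U} h a b => map_mul (resA A h) (toRing A U a) (toRing A U b)) a b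

/-- The trace form, as a map to the dual. -/
def formMap (τ : A.toModule ⟶ Coh.structureModule X) : A.toModule ⟶ RefHull.dual A.toModule :=
  W7Hull.cur (mulMap A ≫ τ)

theorem mono_formMap (τ : A.toModule ⟶ Coh.structureModule X)
    (hτ : ∀ (U W : X.Opens), HasFr A U → W ≤ U → ∀ a : Sec A W, τ.app W a = tr A W a)
    (hA : FlatMod.IsFinLocFree A.toModule)
    (hnd : ∀ (U W : X.Opens), HasFr A U → W ≤ U → IsAffineOpen W → (W : Set X).Nonempty →
      ∀ m : Sec A W, (∀ a : Sec A W, tr A W (a * m) = 0) → m = 0) :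
    Mono (formMap A τ) := by
  refine (QC.mono_iff_app_injective _).2 fun U => (injective_iff_map_eq_zero _).2 fun m hm =>
    QC.section_eq_of_locally fun x hx => ?_
  obtain ⟨V, hxV, hV⟩ := exists_hasFr hA x
  obtain ⟨W, hW, hxW, hWle⟩ := exists_isAffineOpen_mem_and_subset (show x ∈ U ⊓ V from ⟨hx, hxV⟩)
  have h1 : W ≤ U := fun z hz => (hWle hz).1
  refine ⟨W, h1, hxW, ?_⟩
  rw [map_zero]
  refine hnd V W hV (fun z hz => (hWle hz).2) hW ⟨x, hxW⟩ _ fun a => ?_
  refine RefStalk.germ_ext (G := Coh.structureModule X) fun y hy => ?_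
  have h2 := W7Hull.cur_app (mulMap A ≫ τ) m (h1 hy) h1 hy a
  change ((formMap A τ).app U m).1 _ _ = _ at h2
  rw [hm] at h2
  refine Eq.trans ?_ ((h2.symm).trans ?_)
  · refine congrArg (mgerm (Coh.structureModule X) hy) ?_
    refine Eq.trans (hτ V W hV (fun z hz => (hWle hz).2) _).symm ?_
    show τ.app W _ = τ.app W ((mulMap A).app W _)
    rw [mulMap_tm]
    rfl
  · exact (map_zero (mgerm (Coh.structureModule X) hy)).symm

variable {Y : Scheme.{u}} [IsIntegral X] [IsIntegral Y] (f : X ⟶ Y) [IsFinite f] (e : f (genericPoint X) = genericPoint Y)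

include e in
/-- A finite dominant morphism onto a regular curve is flat. -/
theorem flat_of_curve (hdY : topologicalKrullDim Y ≤ 1) (hreg : ∀ y : Y, IsRegularLocalRing (Y.presheaf.stalk y)) :
    Flat f := by
  refine Flat.of_stalkMap f fun x => ?_
  haveI := hreg (f x)
  haveI := W7Slope.isPrincipalIdealRing_of_regular (R := Y.presheaf.stalk (f x))
    ((RegDual.ringKrullDim_stalk_le_topologicalKrullDim (f x)).trans hdY)
  refine GoingDown.flat_stalkMap_of_maximal f x fun ξ hξ _ => ?_
  have h1 : ξ = genericPoint X := (hξ _ ((genericPoint_spec X).specializes (Set.mem_univ ξ))).symm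
  rw [h1, e]
  exact fun w hw => (hw.antisymm ((genericPoint_spec Y).specializes (Set.mem_univ w))).eq

include e in
/-- The direct image algebra is locally free. -/
theorem isFinLocFree_directImage [IsLocallyNoetherian Y] (hdY : topologicalKrullDim Y ≤ 1)
    (hreg : ∀ y : Y, IsRegularLocalRing (Y.presheaf.stalk y)) :
    FlatMod.IsFinLocFree (RelSpec.QCAlg.directImage f).toModule ∧
      Nonempty ((Scheme.Modules.pushforward f).obj (Coh.structureModule X) ≅ (RelSpec.QCAlg.directImage f).toModule) := by
  haveI := flat_of_curve f e hdY hreg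
  haveI := InfLift.lfp_of_lft f
  haveI : IsIso (RelSpecFT.fromPush f) :=
    GrT.isIso_of_locally _ (fun W => Function.injective_id) fun W t y hy => ⟨W, le_rfl, hy, t, (res_self _ _ t).symm⟩
  refine ⟨?_, ⟨asIso (RelSpecFT.fromPush f)⟩⟩
  intro y
  obtain ⟨U, n, hy, ⟨i⟩⟩ := ResDesc.isFinLocFree_push f (ResDesc.isFinLocFree_structureModule X) y
  exact ⟨U, n, hy, ⟨(Scheme.Modules.restrictFunctor U.ι).mapIso (asIso (RelSpecFT.fromPush f)).symm ≪≫ i⟩⟩

/-- The trace form of a finite morphism which is generically separable is nondegenerate on sections. -/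
theorem trace_nondegenerate
    (hsep : letI := ((Y.presheaf.stalkSpecializes (specializes_of_eq e) ≫ f.stalkMap (genericPoint X)).hom).toAlgebra
      Algebra.IsSeparable Y.functionField X.functionField)
    {W : Y.Opens} {U : Y.Opens} (hU : HasFr (RelSpec.QCAlg.directImage f) U) (hWU : W ≤ U) (hW : IsAffineOpen W)
    (hne : (W : Set Y).Nonempty) (m : Sec (RelSpec.QCAlg.directImage f) W)
    (hm : ∀ a : Sec (RelSpec.QCAlg.directImage f) W, tr (RelSpec.QCAlg.directImage f) W (a * m) = 0) : m = 0 := by
  haveI : Nonempty W := hne.to_subtype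
  have hηY : genericPoint Y ∈ W :=
    let ⟨y, hy⟩ := hne; ((genericPoint_spec Y).specializes (Set.mem_univ y)).mem_open W.2 hy
  have hηX : genericPoint X ∈ f ⁻¹ᵁ W := by show f (genericPoint X) ∈ W; rw [e]; exact hηY
  haveI : Nonempty (f ⁻¹ᵁ W) := ⟨⟨_, hηX⟩⟩
  letI a1 := ((Y.presheaf.stalkSpecializes (specializes_of_eq e) ≫ f.stalkMap (genericPoint X)).hom).toAlgebra
  haveI : Algebra.IsSeparable Y.functionField X.functionField := hsep
  letI a2 : Algebra Γ(Y, W) Γ(X, f ⁻¹ᵁ W) := (f.app W).hom.toAlgebra
  letI a3 : Algebra Γ(Y, W) Y.functionField := (Y.presheaf.germ W _ hηY).hom.toAlgebra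
  letI a4 : Algebra Γ(X, f ⁻¹ᵁ W) X.functionField := (X.presheaf.germ (f ⁻¹ᵁ W) _ hηX).hom.toAlgebra
  letI a5 : Algebra Γ(Y, W) X.functionField := ((algebraMap Γ(X, f ⁻¹ᵁ W) X.functionField).comp (algebraMap Γ(Y, W) Γ(X, f ⁻¹ᵁ W))).toAlgebra
  haveI : IsScalarTower Γ(Y, W) Γ(X, f ⁻¹ᵁ W) X.functionField := IsScalarTower.of_algebraMap_eq' rfl
  haveI : IsScalarTower Γ(Y, W) Y.functionField X.functionField := IsScalarTower.of_algebraMap_eq fun r => by
    have h1 := TopCat.Presheaf.germ_stalkSpecializes Y.presheaf hηY (specializes_of_eq e)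
    have h2 := Scheme.Hom.germ_stalkMap f W (genericPoint X) (show f (genericPoint X) ∈ W by rw [e]; exact hηY)
    show (X.presheaf.germ (f ⁻¹ᵁ W) _ hηX) ((f.app W) r) =
      (Y.presheaf.stalkSpecializes (specializes_of_eq e) ≫ f.stalkMap (genericPoint X)) (Y.presheaf.germ W _ hηY r)
    rw [← CommRingCat.comp_apply, ← CommRingCat.comp_apply, reassoc_of% h1, h2]
  haveI : IsFractionRing Γ(Y, W) Y.functionField := functionField_isFractionRing_of_isAffineOpen Y W hW
  haveI : IsFractionRing Γ(X, f ⁻¹ᵁ W) X.functionField :=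
    functionField_isFractionRing_of_isAffineOpen X (f ⁻¹ᵁ W) (hW.preimage f)
  obtain ⟨n, fr, hfr⟩ := hU
  obtain ⟨hfree, hfin⟩ := finite_free hfr hWU
  haveI : Module.Free Γ(Y, W) Γ(X, f ⁻¹ᵁ W) := hfree
  haveI : Module.Finite Γ(Y, W) Γ(X, f ⁻¹ᵁ W) := hfin
  exact eq_zero_of_trace_mul (R := Γ(Y, W)) (S := Γ(X, f ⁻¹ᵁ W)) (K := Y.functionField) (L := X.functionField) hm

end Groth.Agent.FinCovTr
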