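import Groth.Prelude.Def_FinCov
import Groth.Agent.FinCovTr.Trace
import Groth.Agent.CurveRR.Zero
import Groth.Agent.FEtRank.PushRank
import Groth.Agent.RelSpecUP.Basic

/-!
# Covers from local free charts
-/

set_option autoImplicit false
set_option backward.isDefEq.respectTransparency false
set_option backward.isDefEq.respectTransparency.types false
set_option linter.style.haveILetI false
set_option maxHeartbeats 1000000

universe u

open CategoryTheory CategoryTheory.Limits AlgebraicGeometry TopologicalSpace Opposite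

noncomputable section

namespace Groth.Agent.FinCovTr

variable {X Y : Scheme.{u}}

/-- A morphism with charts given by algebras with bases is a cover. -/
theorem isCover_of_charts (f : X ⟶ Y) (d : ℕ)
    (h : ∀ y : Y, ∃ (D : Y.Opens) (hD : IsAffineOpen D) (A : CommRingCat.{u}) (φ : Γ(Y, D) ⟶ A)
      (p : Spec A ⟶ X), y ∈ D ∧ IsPullback (Spec.map φ) p hD.fromSpec f ∧
        (letI := φ.hom.toAlgebra; Nonempty (Module.Basis (Fin d) Γ(Y, D) A))) :
    FinCov.IsCover f d := by
  choose D hD A φ p hy hP hb using h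
  let 𝒰 : Y.OpenCover := Scheme.Cover.mkOfCovers Y (fun y => Spec Γ(Y, D y)) (fun y => (hD y).fromSpec)
    (fun y => ⟨y, (hD y).range_fromSpec.ge (hy y)⟩) (fun y => inferInstance)
  have key : ∀ y, IsFinite (Spec.map (φ y)) ∧ Flat (Spec.map (φ y)) ∧
      LocallyOfFinitePresentation (Spec.map (φ y)) := fun y => by
    letI := (φ y).hom.toAlgebra
    obtain ⟨b⟩ := hb y
    haveI : Module.Free Γ(Y, D y) (A y) := Module.Free.of_basis b
    haveI : Module.Finite Γ(Y, D y) (A y) := Module.Finite.of_basis b
    have he : φ y = CommRingCat.ofHom (algebraMap Γ(Y, D y) (A y)) := rfl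
    rw [he]
    refine ⟨(IsFinite.SpecMap_iff _).2 (RingHom.finite_algebraMap.2 inferInstance),
      Flat.SpecMap_iff.2 (RingHom.flat_algebraMap_iff.2 inferInstance), ?_⟩
    rw [LocallyOfFinitePresentation.SpecMap_iff]
    refine RingHom.finitePresentation_algebraMap.2 ?_
    haveI : Module.FinitePresentation Γ(Y, D y) (A y) := Module.finitePresentation_of_projective _ _
    exact Algebra.FinitePresentation.of_finitePresentation _ _
  have prop : ∀ (P : MorphismProperty Scheme.{u}) [IsZariskiLocalAtTarget P] [P.RespectsIso],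
      (∀ y, P (Spec.map (φ y))) → P f := fun P _ _ hP' => by
    refine IsZariskiLocalAtTarget.of_openCover (P := P) 𝒰 fun y => ?_
    change P (pullback.snd f (hD y).fromSpec)
    rw [← (hP y).flip.isoPullback_inv_snd, P.cancel_left_of_respectsIso]
    exact hP' y
  haveI : IsFinite f := prop @IsFinite fun y => (key y).1
  haveI : Flat f := prop @Flat fun y => (key y).2.1
  haveI : LocallyOfFinitePresentation f := prop @LocallyOfFinitePresentation fun y => (key y).2.2
  refine ⟨⟨inferInstance, inferInstance, inferInstance⟩, fun y => ?_⟩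
  letI := (φ y).hom.toAlgebra
  obtain ⟨b⟩ := hb y
  haveI : Module.Free Γ(Y, D y) (A y) := Module.Free.of_basis b
  haveI : Module.Finite Γ(Y, D y) (A y) := Module.Finite.of_basis b
  obtain ⟨q, hq⟩ : ∃ q, (hD y).fromSpec q = y := (hD y).range_fromSpec.ge (hy y)
  haveI := q.nontrivial
  rw [← hq]
  refine (Scheme.Hom.finrank_of_isPullback _ _ _ _ (hP y).flip q).symm.trans ?_
  change (Spec.map (CommRingCat.ofHom (algebraMap Γ(Y, D y) (A y)))).finrank q = d
  rw [Scheme.Hom.finrank_SpecMap_algebraMap, Module.rankAtStalk_eq_finrank_of_free, Pi.natCast_apply,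
    Nat.cast_id, Module.finrank_eq_card_basis b, Fintype.card_fin]

/-- The relative spectrum of a rank `d` algebra is a cover. -/
theorem isCover_pi (A : RelSpec.QCAlg X) (d : ℕ) (hA : FlatMod.IsFinLocFreeOfRank d A.toModule) :
    FinCov.IsCover A.π d := by
  refine isCover_of_charts A.π d fun x => ?_
  obtain ⟨U, e, hxU, he⟩ := CurveRR.exists_frame hA x
  obtain ⟨D, hD, hxD, hDU⟩ := exists_isAffineOpen_mem_and_subset hxU
  exact ⟨D, hD, _, A.str.app (op D), A.ι D hD, hxD, RelSpecUP.isPullback_chart A D hD, ⟨basisOf he hDU⟩⟩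

/-- An affine morphism with direct image free of rank `d` is a cover. -/
theorem isCover_of_push (f : X ⟶ Y) [IsAffineHom f] (d : ℕ)
    (h : FlatMod.IsFinLocFreeOfRank d ((Scheme.Modules.pushforward f).obj (Coh.structureModule X))) :
    FinCov.IsCover f d := by
  refine isCover_of_charts f d fun y => ?_
  obtain ⟨W, hyW, ⟨e⟩⟩ := h y
  obtain ⟨D, hD, hyD, hDW⟩ := exists_isAffineOpen_mem_and_subset hyW
  have hD' : IsAffineOpen (f ⁻¹ᵁ D) := hD.preimage f
  have sq : IsPullback (Spec.map (f.app D)) hD'.fromSpec hD.fromSpec f := by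
    refine IsOpenImmersion.isPullback (Spec.map (f.app D)) hD'.fromSpec hD.fromSpec f ?_ ?_
    · rw [← hD.SpecMap_appLE_fromSpec f hD' le_rfl, Scheme.Hom.appLE_eq_app]
    · rw [hD'.opensRange_fromSpec, hD.opensRange_fromSpec]
  obtain ⟨l, -⟩ := FEtRank.finrank_sections_of_le e hD hDW
  refine ⟨D, hD, _, f.app D, hD'.fromSpec, hyD, sq, ?_⟩
  letI := (f.app D).hom.toAlgebra
  let l' : Γ(X, f ⁻¹ᵁ D) ≃ₗ[Γ(Y, D)] (ULift.{u} (Fin d) →₀ Γ(Y, D)) :=
    { toFun := fun x => l x
      invFun := fun v => l.symm v
      map_add' := fun a b => l.map_add a b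
      map_smul' := fun r a => l.map_smul r a
      left_inv := fun x => l.symm_apply_apply x
      right_inv := fun v => l.apply_symm_apply v }
  exact ⟨(Module.Basis.ofRepr l').reindex Equiv.ulift⟩

end Groth.Agent.FinCovTr
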